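import Mathlib
import Cfsg.Agent.Lib.Sporadic.HSOut.Vecs
import Cfsg.Agent.Lib.Sporadic.HSOut.Data

/-! The kernel checks of the action of the generators. -/

set_option autoImplicit false
set_option maxRecDepth 100000

namespace Cfsg.Agent.Lib.Sporadic.HSOut.Gens

open Cfsg Cfsg.Agent.Lib.Compute.PermCert Cfsg.Agent.Lib.Compute.OutChain Cfsg.Agent.Lib.Sporadic.LeechKey Cfsg.Agent.Lib.Sporadic.LeechMcLData
  Cfsg.Agent.Lib.Sporadic.LeechA0 Cfsg.Agent.Lib.Sporadic.LeechMin Cfsg.Agent.Lib.Sporadic.LeechFast Cfsg.Agent.Lib.Sporadic.LeechFast2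
  Cfsg.Agent.Lib.Sporadic.HSOut.Vecs Cfsg.Agent.Lib.Sporadic.HSOut.Data


theorem gen0_len : iA0.length = 24 := by decide +kernel
theorem gen0_lt : iA0.all (fun t => Nat.blt t 24) = true := by decide +kernel
theorem gen0_ok : allN (fun i => permChk (TT i) (TT (get 7 127 eG0.f i)) iA0 0) 100 7 = true := by
  decide +kernel
theorem gen1_len : iA1.length = 24 := by decide +kernel
theorem gen1_lt : iA1.all (fun t => Nat.blt t 24) = true := by decide +kernel
theorem gen1_ok : allN (fun i => permChk (TT i) (TT (get 7 127 eG1.f i)) iA1 0) 100 7 = true := by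
  decide +kernel
theorem gen2_len : iA2.length = 24 := by decide +kernel
theorem gen2_lt : iA2.all (fun t => Nat.blt t 24) = true := by decide +kernel
theorem gen2_ok : allN (fun i => permChk (TT i) (TT (get 7 127 eG2.f i)) iA2 0) 100 7 = true := by
  decide +kernel
theorem gen3_val : rowsValid MS 4 rowsMS = true := by decide +kernel
theorem gen3_ok : allN (fun i => rowsChk 4 (TT i) (TT (get 7 127 eG3.f i)) rowsMS 0) 100 7 = true := by
  decide +kernel
theorem sorted_ok : allN (sortedChk TT 100) 100 7 = true := by decide +kernel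
theorem tree_ok : allN (treeChk 7 127 100 [eG0, eG1, eG2, eG3] TC) 100 7 = true := by decide +kernel

theorem treeO_ok : allN (treeV gsO TO TOC 11178 7792) 11178 14 = true := by decide +kernel
theorem sortedO_ok : allN (sortedChk TO 11178) 11178 14 = true := by decide +kernel
theorem rowsMg_val : rowsValid Mg 4 rowsMg = true := by decide +kernel
theorem iA0_len : iA0.length = 24 := by decide +kernel
theorem iA1_len : iA1.length = 24 := by decide +kernel
theorem iA2_len : iA2.length = 24 := by decide +kernel
theorem iT_len : iT.length = 24 := by decide +kernel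
theorem iA0_lt : iA0.all (fun t => Nat.blt t 24) = true := by decide +kernel
theorem iA1_lt : iA1.all (fun t => Nat.blt t 24) = true := by decide +kernel
theorem iA2_lt : iA2.all (fun t => Nat.blt t 24) = true := by decide +kernel
theorem iT_lt : iT.all (fun t => Nat.blt t 24) = true := by decide +kernel

end Cfsg.Agent.Lib.Sporadic.HSOut.Gens
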