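import Mathlib
import Cfsg.Agent.Lib.Sporadic.HSOut.Gens
import Cfsg.Agent.Lib.Sporadic.HSOut.Check

/-! The outer automorphism group of the group HS. -/

set_option autoImplicit false
set_option maxRecDepth 100000

namespace Cfsg.Agent.Lib.Sporadic.HSOut.Main

open Cfsg Cfsg.Agent.Lib.Compute.PermCert Cfsg.Agent.Lib.Compute.OutChain Cfsg.Agent.Lib.Compute.OutFinal
  Cfsg.Agent.Lib.Compute.OutFinal4 Cfsg.Agent.Lib.Compute.OutFinal5 Cfsg.Agent.Lib.Compute.OutFinal2 Cfsg.Agent.Lib.Compute.PermOut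
  Cfsg.Agent.Lib.Sporadic.GolayCore Cfsg.Agent.Lib.Sporadic.LeechBasic Cfsg.Agent.Lib.Sporadic.LeechAut
  Cfsg.Agent.Lib.Sporadic.LeechMat Cfsg.Agent.Lib.Sporadic.LeechKey Cfsg.Agent.Lib.Sporadic.LeechEnum
  Cfsg.Agent.Lib.Sporadic.LeechA0 Cfsg.Agent.Lib.Sporadic.LeechMcLData Cfsg.Agent.Lib.Sporadic.LeechMcL
  Cfsg.Agent.Lib.Sporadic.LeechMin
  Cfsg.Agent.Lib.Sporadic.LeechRep Cfsg.Agent.Lib.Sporadic.LeechGroups Cfsg.Agent.Lib.Sporadic.LeechRep2
  Cfsg.Agent.Lib.Sporadic.LeechFast Cfsg.Agent.Lib.Sporadic.LeechFast2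
  Cfsg.Agent.Lib.Sporadic.HSOut.Vecs Cfsg.Agent.Lib.Sporadic.HSOut.Data Cfsg.Agent.Lib.Sporadic.HSOut.Check
  Cfsg.Agent.Lib.Sporadic.HSOut.Gens


/-- The vector of norm `48`. -/
def c5E : leechLattice := ⟨vecOf (vkL 5), inLattice_sound vk5_ok⟩

theorem sq_c5 : sqNorm (c5E : GolayPt → ℤ) = 48 := by
  show sqNorm (vecOf (vkL 5)) = 48
  rw [sqNorm_vecOf]
  decide +kernel

theorem h0O : vecOf (decV (TO 7792)) ∈ leechLattice := inLattice_sound (by decide +kernel)

/-- The vector of norm `32`. -/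
def upE : leechLattice := ⟨vecOf (decV (TO 7792)), h0O⟩

theorem hgsO : ∀ ch ∈ gsO, ChkOK (MulAction.stabilizer Co0 c5E) ch := by
  intro ch hch
  simp only [gsO, List.mem_cons, List.not_mem_nil, or_false] at hch
  rcases hch with rfl | rfl | rfl | rfl | rfl
  · exact chkOK_perm (mem_stab_of_acts _ actA0 (by decide +kernel)) actA0 iA0_len iA0_lt
  · exact chkOK_perm (mem_stab_of_acts _ actA1 (by decide +kernel)) actA1 iA1_len iA1_lt
  · exact chkOK_perm (mem_stab_of_acts _ actA2 (by decide +kernel)) actA2 iA2_len iA2_lt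
  · exact chkOK_mat (mem_stab_of_acts _ (acts_mat Mg_ok) (by decide +kernel)) (acts_mat Mg_ok) (by norm_num) (by norm_num) rowsMg_val
  · exact chkOK_perm (mem_stab_of_acts _ actT (by decide +kernel)) actT iT_len iT_lt

theorem hU : Spor.leechU' = ⟨vecOf u'L, by rw [← vecU'_eq]; exact Spor.leechU'.2⟩ := Subtype.ext vecU'_eq
theorem hV : Spor.leechV = ⟨vecOf vL, by rw [← vecV_eq]; exact Spor.leechV.2⟩ := Subtype.ext vecV_eq

theorem g0V : matCo0 M0_ok • Spor.leechV = c5E := by
  rw [hV, actM0.smul _ (by rw [show matL M0 1 vL = vkL 5 by decide +kernel]; exact inLattice_sound vk5_ok)]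
  exact Subtype.ext (congrArg vecOf (show matL M0 1 vL = vkL 5 by decide +kernel))

theorem g0U : matCo0 M0_ok • Spor.leechU' = upE := by
  rw [hU, actM0.smul _ (by rw [show matL M0 1 u'L = decV (TO 7792) by decide +kernel]; exact h0O)]
  exact Subtype.ext (congrArg vecOf (show matL M0 1 u'L = decV (TO 7792) by decide +kernel))


/-- The group. -/
noncomputable abbrev SS : Subgroup Co0 := MulAction.stabilizer Co0 c5E ⊓ MulAction.stabilizer Co0 upE

theorem hd : 100 ≤ 2 ^ 7 := by norm_num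

theorem chkA : chkChain 7 127 100 19 524287 (lrlvA.map Prod.fst) = true :=
  (chkChainF_eq hd (tw := 19) (tm := 524287) (w := 7) (m := 127) (ls := lrlvA.map Prod.fst)).symm.trans chainA_ok

theorem card_SS : Nat.card SS ≤ 44352000 := by
  have h := card_le_of_tree (H := MulAction.stabilizer Co0 c5E) (gs := gsO) (T := TO) (tb := TOC) (N := 11178) (r := 7792) (d := 14)
    (by norm_num) hgsO h0O treeO_ok (fun i _ => get96_lt _ _) (sorted_of_chk (by norm_num) sortedO_ok)
  rw [card_stab_48 _ sq_c5, show (495766656000 : ℕ) = 44352000 * 11178 by norm_num] at h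
  exact Nat.le_of_mul_le_mul_right h (by norm_num)

theorem hmem : ∀ i, i < 100 → vecOf (decV (TT i)) ∈ leechLattice := by
  refine mem_of_tree2 hd (Gs := [eG0, eG1, eG2, eG3]) (fun e he => ?_) (inLattice_sound (by decide +kernel)) tree_ok
  simp only [List.mem_cons, List.not_mem_nil, or_false] at he
  rcases he with rfl | rfl | rfl | rfl
  · exact ⟨_, _, genOK_perm hd actA0 gen0_len gen0_lt gen0_ok⟩
  · exact ⟨_, _, genOK_perm hd actA1 gen1_len gen1_lt gen1_ok⟩
  · exact ⟨_, _, genOK_perm hd actA2 gen2_len gen2_lt gen2_ok⟩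
  · exact ⟨_, _, genOK_mat hd actMS (by norm_num) (by norm_num) gen3_val gen3_ok⟩

theorem hExists : ∃ K : Subgroup (Equiv.Perm (Fin 100)), ChainFor 7 127 100 19 524287 K (lrlvA.map Prod.fst) ∧ Nonempty (SS ≃* K) := by
  refine rep_table chkA (fun i _ => get96_lt _ _) (sorted_of_chk hd sorted_ok) hmem (fun e he => ?_) (by rw [ordA]; exact card_SS)
  have he' : e ∈ [eG0, eG1, eG2, eG3] := he
  simp only [List.mem_cons, List.not_mem_nil, or_false] at he'
  rcases he' with rfl | rfl | rfl | rfl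
  · exact ⟨_, (Subgroup.mem_inf.2 ⟨mem_stab_of_acts _ actA0 (by decide +kernel), mem_stab_of_acts _ actA0 (by decide +kernel)⟩), _, genOK_perm hd actA0 gen0_len gen0_lt gen0_ok⟩
  · exact ⟨_, (Subgroup.mem_inf.2 ⟨mem_stab_of_acts _ actA1 (by decide +kernel), mem_stab_of_acts _ actA1 (by decide +kernel)⟩), _, genOK_perm hd actA1 gen1_len gen1_lt gen1_ok⟩
  · exact ⟨_, (Subgroup.mem_inf.2 ⟨mem_stab_of_acts _ actA2 (by decide +kernel), mem_stab_of_acts _ actA2 (by decide +kernel)⟩), _, genOK_perm hd actA2 gen2_len gen2_lt gen2_ok⟩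
  · exact ⟨_, (Subgroup.mem_inf.2 ⟨mem_stab_of_acts _ actMS (by decide +kernel), mem_stab_of_acts _ actMS (by decide +kernel)⟩), _, genOK_mat hd actMS (by norm_num) (by norm_num) gen3_val gen3_ok⟩

/-- The group as a permutation group. -/
noncomputable def K : Subgroup (Equiv.Perm (Fin 100)) := Classical.choose hExists

theorem hA : ChainFor 7 127 100 19 524287 K (lrlvA.map Prod.fst) := (Classical.choose_spec hExists).1

theorem iso : Nonempty (SS ≃* K) := (Classical.choose_spec hExists).2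

theorem card_K : Nat.card K = 44352000 := by
  rw [← hA.ord]
  exact ordA

theorem out_eq : Nat.card (Out Cfsg.Spor.HS) = Nat.card (Out K) := by
  have e : Spor.HS ≃* SS := conjEquiv (matCo0 M0_ok) _ _ (fun x hx => hx.1.1) fun x => by
    rw [Subgroup.mem_inf]
    constructor
    · rintro ⟨⟨-, h1⟩, h2⟩
      refine ⟨?_, ?_⟩
      · show (matCo0 M0_ok * x * (matCo0 M0_ok)⁻¹) • c5E = c5E
        rw [← g0V]
        exact (conj_fix_iff _ x _).2 h1
      · show (matCo0 M0_ok * x * (matCo0 M0_ok)⁻¹) • upE = upE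
        rw [← g0U]
        exact (conj_fix_iff _ x _).2 h2
    · rintro ⟨h1, h2⟩
      have h3 : (matCo0 M0_ok * x * (matCo0 M0_ok)⁻¹) • c5E = c5E := h1
      have h4 : (matCo0 M0_ok * x * (matCo0 M0_ok)⁻¹) • upE = upE := h2
      rw [← g0V] at h3
      rw [← g0U] at h4
      exact ⟨⟨x.2, (conj_fix_iff _ x _).1 h3⟩, (conj_fix_iff _ x _).1 h4⟩
  obtain ⟨e2⟩ := iso
  exact (card_out_congr e).trans (card_out_congr e2)

theorem mP : permOf 7 127 100 piE ∈ K := hA.mem_of_sift hd (gt_eq vP) siftP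
theorem mR : permOf 7 127 100 rhoE ∈ K := hA.mem_of_sift hd (gt_eq vR) siftR
theorem mY : permOf 7 127 100 yE ∈ K := hA.mem_of_sift hd (gt_eq vY) siftY

theorem hB : ChainFor 7 127 100 19 524287 K (lrlvB.map Prod.fst) := by
  refine ChainFor.of_fast hd chainB_ok ?_ (by rw [ordB, card_K])
  refine (Subgroup.closure_le _).mpr ?_
  rintro _ ⟨e, he, rfl⟩
  have he' : e ∈ [piE, rhoE, yE] := he
  simp only [List.mem_cons, List.not_mem_nil, or_false] at he'
  rcases he' with rfl | rfl | rfl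
  · exact mP
  · exact mR
  · exact mY

instance factP : Fact (Nat.Prime 11) := ⟨by norm_num⟩

theorem hpow : permOf 7 127 100 piE ^ 11 = 1 := pow_of_check vP hd powP

/-- The outer automorphism group of the group. -/
theorem card_out : Nat.card (Out Cfsg.Spor.HS) = 2 := by
  rw [out_eq]
  refine Cfsg.Agent.Lib.Compute.OutFinal3.card_out_two_tau (p := 11) (r := 3) (a := 10) (q := 5) (zk := 1) (pe := piE) (re := rhoE) (ye := yE) (te := tE) (ze := rhoE)
    (kills := kills) (ts := []) hB hd rfl vP vR vY ?_ hpow ?_ ?_ ?_ ?_ ?_ ?_ ?_ ?_ ?_ ?_ ?_ ?_ ?_ ?_ ?_ ?_ kF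
  · rw [card_K]; norm_num
  · exact ne_one_of_point vP (i := 0) (by norm_num) (by decide +kernel)
  · exact rel_of_check vP vR hd relR
  · exact pow_of_check vR hd powR
  · exact hexp2_of_check (by norm_num) (by decide)
  · exact rel_of_check vT vP hd relT
  · exact hA.mem_of_sift hd (conj_rep' vT vP) siftTP'
  · exact hA.mem_of_sift hd (conj_rep vT vR) siftTR
  · exact hA.mem_of_sift hd (conj_rep' vT vR) siftTR'
  · exact hA.mem_of_sift hd (conj_rep vT vY) siftTY
  · exact hA.mem_of_sift hd (conj_rep' vT vY) siftTY'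
  · intro x hx h _
    exact hconj_of_search hA hd vP vR mP mR hpow ruA sA x hx h
  · intro x hx h
    obtain ⟨vf, vi, -, hl⟩ := search_useN hA hd (X := permOf 7 127 100 piE) (X' := permOf 7 127 100 piE ^ 10) (gt_eq vP)
      (fun i => by rw [iterF_eq]; exact iter_eq (gt_eq vP) _ _) ruA sN x hx (fun y => by
        have := congrArg (fun g : Equiv.Perm (Fin 100) => g y) h
        simpa [Equiv.Perm.mul_apply] using this)
    simp at hl
  · intro t ht
    simp at ht
  · exact (pow_one _).symm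
  · exact comm_of_check vY vR hd commYR
  · intro c hc hcz
    exact search_use hB hd (gt_eq vR) (gt_eq vR) ruB sB c hc hcz

end Cfsg.Agent.Lib.Sporadic.HSOut.Main
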